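import Groth.Agent.LieWeight.Bracket
import Groth.Agent.MTBridge.Centralizer
import Groth.Agent.MTTorus.CommFactor
import Groth.Agent.Chev.TorusExt
import Groth.Agent.S8034
import Mathlib.Algebra.CharP.Basic
import Mathlib.Algebra.Field.ZMod

/-!
# A one-parameter subgroup in a group with nilpotent Lie algebra has central torsion
-/

set_option autoImplicit false
set_option backward.isDefEq.respectTransparency false
set_option linter.style.haveILetI false
set_option linter.unusedSectionVars false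
set_option maxHeartbeats 800000
set_option synthInstance.maxHeartbeats 400000

universe u

open CategoryTheory MonoidalCategory CartesianMonoidalCategory MonObj AlgebraicGeometry LieS
open Groth.Agent.TanAdd Groth.Agent.HomDiag LaurentPolynomial
open scoped CategoryTheory.Obj

noncomputable section

namespace Groth.Agent.LieWeight

variable {k : Type u} [Field k] {G : Over (Spec (CommRingCat.of k))} [GrpObj G] [IsAffine G.left]

/-- The structure morphism. -/
abbrev fk : Spec (CommRingCat.of k) ⟶ Spec (CommRingCat.of k) := Spec.map (CommRingCat.ofHom (algebraMap k k))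

/-- In a nilpotent Lie algebra a weight vector of nonzero weight vanishes. -/
theorem eq_zero_of_lie_eq_smul {L : Type u} [LieRing L] [LieAlgebra k L] (hL : LieRing.IsNilpotent L) {x h : L} {c : k}
    (hc : c ≠ 0) (hx : ⁅h, x⁆ = c • x) : x = 0 := by
  have key : ∀ n, x ∈ LieModule.lowerCentralSeries k L L n := by
    intro n
    induction n with
    | zero => exact LieSubmodule.mem_top x
    | succ n ih =>
      rw [LieModule.lowerCentralSeries_succ]
      have hmem := LieSubmodule.lie_mem_lie (LieSubmodule.mem_top h : h ∈ (⊤ : LieIdeal k L)) ih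
      rw [hx] at hmem
      have := Submodule.smul_mem _ c⁻¹ hmem
      rwa [smul_smul, inv_mul_cancel₀ hc, one_smul] at this
  haveI : LieModule.IsNilpotent L L := hL
  obtain ⟨n, hn⟩ := (LieModule.isNilpotent_iff k L L).1 inferInstance
  have := key n
  rwa [hn, LieSubmodule.mem_bot] at this

theorem spec_assoc {P Q R : Type u} [CommRing P] [CommRing Q] [CommRing R] {Y : Scheme.{u}} (b : Q →+* R) (a : P →+* Q)
    (y : Spec (CommRingCat.of P) ⟶ Y) :
    Spec.map (CommRingCat.ofHom b) ≫ Spec.map (CommRingCat.ofHom a) ≫ y =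
      Spec.map (CommRingCat.ofHom (b.comp a)) ≫ y := by
  rw [← Category.assoc, specMap_comp]

/-- The test map attached to a point of a dual number scheme and a point of the multiplicative group. -/
theorem weight_commute (c : Red.DS (Spec (CommRingCat.of k)) ℤ ⟶ G) [IsMonHom c] (v : Lie G k fk) (m : ℤ)
    (hv : Ad G (LaurentPolynomial k) (fT fk) (xT fk ≫ c) (pl C rfl v) = (T m : LaurentPolynomial k) • pl C rfl v)
    {X : Over (Spec (CommRingCat.of k))} (x : X ⟶ dpt k fk) (a : X ⟶ Red.DS (Spec (CommRingCat.of k)) ℤ)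
    (ha : ch a (Multiplicative.ofAdd m) = 1) : (x ≫ v.1) * (a ≫ c) = (a ≫ c) * (x ≫ v.1) := by
  let φ₀ : DualNumber k →+* Γ(X.left, ⊤) :=
    ((Scheme.ΓSpecIso (CommRingCat.of (DualNumber k))).inv ≫ x.left.appTop).hom
  let θ : LaurentPolynomial k →+* Γ(X.left, ⊤) := evalT (φ₀.comp (algebraMap k (DualNumber k))) (ch a)
  have he : φ₀ DualNumber.eps * φ₀ DualNumber.eps = 0 := by rw [← map_mul, eps_sq, map_zero]
  let Φ₀ : DualNumber (LaurentPolynomial k) →+* Γ(X.left, ⊤) := dualHom θ (φ₀ DualNumber.eps) he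
  have h0 : Φ₀.comp (bcHom C) = φ₀ := RingHom.ext fun z => by
    have hz : z = algebraMap k (DualNumber k) z.fst + algebraMap k (DualNumber k) z.snd * DualNumber.eps := by
      ext <;> simp [TrivSqZeroExt.algebraMap_eq_inl']
    conv_rhs => rw [hz, map_add, map_mul]
    simp [Φ₀, bcHom, θ, evalT_C, TrivSqZeroExt.algebraMap_eq_inl']
  haveI : IsAffine (dpt k fk).left := inferInstanceAs (IsAffine (Spec (CommRingCat.of (DualNumber k))))
  have hx : x.left = X.left.toSpecΓ ≫ Spec.map (CommRingCat.ofHom φ₀) := by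
    refine ext_of_isAffine ?_
    rw [Scheme.Hom.comp_appTop, ← cancel_epi (Scheme.ΓSpecIso (CommRingCat.of (DualNumber k))).inv,
      ← Scheme.ΓSpecIso_inv_naturality_assoc, Scheme.toSpecΓ_appTop, Iso.inv_hom_id, Category.comp_id]
    rfl
  let Φ : X ⟶ dpt (LaurentPolynomial k) (fT fk) := Over.homMk (X.left.toSpecΓ ≫ Spec.map (CommRingCat.ofHom Φ₀)) (by
    show (X.left.toSpecΓ ≫ Spec.map _) ≫ Spec.map _ ≫ Spec.map _ ≫ fk = X.hom
    rw [← Over.w x]
    show (X.left.toSpecΓ ≫ Spec.map _) ≫ Spec.map _ ≫ Spec.map _ ≫ fk = x.left ≫ Spec.map _ ≫ fk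
    rw [hx, Category.assoc, Category.assoc]
    congr 1
    refine (spec_assoc _ _ _).trans ((spec_assoc _ _ _).trans (Eq.trans ?_ (spec_assoc _ _ _).symm))
    refine congrArg (fun r : k →+* Γ(X.left, ⊤) => Spec.map (CommRingCat.ofHom r) ≫ fk) ?_
    rw [RingHom.comp_assoc, ← bcHom_comp_algebraMap, ← RingHom.comp_assoc, h0])
  have h1 : Φ ≫ qdual C rfl = x := Over.OverMorphism.ext (by
    show (X.left.toSpecΓ ≫ Spec.map _) ≫ Spec.map _ = x.left
    rw [Category.assoc, specMap_comp, h0, hx])
  have h2 : Φ ≫ proj (LaurentPolynomial k) (fT fk) ≫ xT fk = a := ch_ext fun n => by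
    rw [← Category.assoc, ch_comp, xT, (exists_univ fk).choose_spec]
    show ((X.left.toSpecΓ ≫ Spec.map (CommRingCat.ofHom Φ₀)) ≫
      Spec.map (CommRingCat.ofHom (algebraMap (LaurentPolynomial k) (DualNumber (LaurentPolynomial k))))).appTop _ = _
    rw [Category.assoc, specMap_comp, dualHom_comp_algebraMap, Scheme.Hom.comp_appTop]
    show X.left.toSpecΓ.appTop ((Spec.map (CommRingCat.ofHom θ)).appTop _) = _
    rw [appTop_comp_inv, Scheme.toSpecΓ_appTop]
    show (Scheme.ΓSpecIso Γ(X.left, ⊤)).hom ((Scheme.ΓSpecIso (CommRingCat.of Γ(X.left, ⊤))).inv (θ (T n.toAdd))) = _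
    refine (congr($((Scheme.ΓSpecIso (CommRingCat.of Γ(X.left, ⊤))).inv_hom_id) (θ (T n.toAdd)))).trans ?_
    exact evalT_T _ _ _
  have h3 : Φ ≫ scale (LaurentPolynomial k) (fT fk) (T m) = Φ := Over.OverMorphism.ext (by
    show (X.left.toSpecΓ ≫ Spec.map _) ≫ Spec.map _ = X.left.toSpecΓ ≫ Spec.map _
    rw [Category.assoc, specMap_comp]
    congr 3
    refine RingHom.ext fun z => ?_
    have hT : θ (T m) = 1 := (evalT_T _ _ _).trans ha
    simp [Φ₀, scaleHom, hT, TrivSqZeroExt.algebraMap_eq_inl'])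
  have h4 := congrArg (fun w : Lie G (LaurentPolynomial k) (fT fk) => Φ ≫ w.1) hv
  change Φ ≫ ((proj _ _ ≫ xT fk ≫ c) * (qdual C rfl ≫ v.1) * (proj _ _ ≫ xT fk ≫ c)⁻¹) =
    Φ ≫ scale _ _ _ ≫ qdual C rfl ≫ v.1 at h4
  rw [MonObj.comp_mul, MonObj.comp_mul, GrpObj.comp_inv, reassoc_of% h3, reassoc_of% h1, reassoc_of% h2,
    mul_inv_eq_iff_eq_mul] at h4
  exact h4.symm

/-- **A one-parameter subgroup of a group with nilpotent Lie algebra kills the tangent directions.** -/
theorem commute_of_nilpotent [LocallyOfFiniteType G.hom] {L : Type u} [LieRing L] [LieAlgebra k L]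
    (md : LieS.Model G k fk L) (hL : LieRing.IsNilpotent L) (c : Red.DS (Spec (CommRingCat.of k)) ℤ ⟶ G) [IsMonHom c]
    (v : Lie G k fk) {X : Over (Spec (CommRingCat.of k))} (x : X ⟶ dpt k fk)
    (a : X ⟶ Red.DS (Spec (CommRingCat.of k)) ℤ)
    (ha : ∀ m : ℤ, (m : k) = 0 → ch a (Multiplicative.ofAdd m) = 1) : (x ≫ v.1) * (a ≫ c) = (a ≫ c) * (x ≫ v.1) := by
  obtain ⟨h, hh⟩ := exists_derivative fk c
  obtain ⟨s, vm, hprod, hwt⟩ := exists_weights fk c v
  have key : ∀ m, Commute (x ≫ (vm m).1) (a ≫ c) := fun m => by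
    by_cases hm : (m : k) = 0
    · exact weight_commute c (vm m) m (hwt m) x a (ha m hm)
    · have hb := hh (vm m) m (hwt m)
      let X' : L := (md.e.symm (vm m)).toAdd
      let H : L := (md.e.symm h).toAdd
      have eX : md.e (Multiplicative.ofAdd X') = vm m := md.e.apply_symm_apply _
      have eH : md.e (Multiplicative.ofAdd H) = h := md.e.apply_symm_apply _
      have hl := md.e_lie X' H
      rw [eX, eH] at hl
      have e1 : md.e (Multiplicative.ofAdd ⁅X', H⁆) = ((m : k) • vm m)⁻¹ :=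
        LieAlg.c12_injective (hl.trans hb.symm)
      have e2 : ⁅X', H⁆ = -((m : k) • X') := Multiplicative.ofAdd.injective (md.e.injective (by
        rw [e1, ofAdd_neg, map_inv, md.e_smul, eX]))
      have e3 : X' = 0 := eq_zero_of_lie_eq_smul hL hm (h := H) (by rw [← lie_skew, e2, neg_neg])
      have e4 : vm m = 1 := by rw [← eX, e3, ofAdd_zero, map_one]
      rw [e4]
      show Commute (x ≫ (1 : dpt k fk ⟶ G)) _
      rw [MonObj.comp_one]
      exact Commute.one_left _
  rw [← hprod]
  clear hprod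
  suffices h : Commute (x ≫ (∏ m ∈ s, vm m : Lie G k fk).1) (a ≫ c) from h
  classical
  induction s using Finset.induction_on with
  | empty =>
    show Commute (x ≫ (1 : dpt k fk ⟶ G)) _
    rw [MonObj.comp_one]
    exact Commute.one_left _
  | insert m s hm ih =>
    rw [Finset.prod_insert hm]
    show Commute (x ≫ ((vm m).1 * (∏ m ∈ s, vm m : Lie G k fk).1)) _
    rw [MonObj.comp_mul]
    exact (key m).mul_left ih

theorem mono_DSmap {S : Scheme.{u}} {M N : Type} [AddCommGroup M] [AddCommGroup N] (θ : N →+ M)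
    (hθ : Function.Surjective θ) : Mono (Red.DSmap S θ) := ⟨fun y z h => by
  refine ch_ext fun m => ?_
  obtain ⟨n, hn⟩ := hθ m.toAdd
  have e := congrArg (fun w => ch w (Multiplicative.ofAdd n)) h
  simp only [ch_DSmap, toAdd_ofAdd, hn] at e
  exact e⟩

theorem not_isTrivialGrp_DS (M : Type) [AddCommGroup M] [Nontrivial M] :
    ¬ Red.IsTrivialGrp (Red.DS (Spec (CommRingCat.of k)) M) := by
  intro h
  haveI : IsIso (Red.DS (Spec (CommRingCat.of k)) M).hom := h
  let A : Type u := MonoidAlgebra k (Multiplicative M)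
  let X : Over (Spec (CommRingCat.of k)) := Over.mk (Spec.map (CommRingCat.ofHom (algebraMap k A)))
  obtain ⟨x, hx⟩ := exists_ch (S := Spec (CommRingCat.of k)) (M := M) (X := X)
    (((Scheme.ΓSpecIso (CommRingCat.of A)).inv.hom.toMonoidHom).comp (MonoidAlgebra.of k (Multiplicative M)) :
      Multiplicative M →* Γ(Spec (CommRingCat.of A), ⊤))
  have he : x = 1 := Over.OverMorphism.ext ((cancel_mono (Red.DS (Spec (CommRingCat.of k)) M).hom).1
    ((Over.w x).trans (Over.w _).symm))
  obtain ⟨m, hm⟩ := exists_ne (0 : M)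
  have h1 := hx (Multiplicative.ofAdd m)
  rw [he, ch_one] at h1
  have h2 : MonoidAlgebra.of k (Multiplicative M) (Multiplicative.ofAdd m) = 1 := by
    have h3 := congrArg (Scheme.ΓSpecIso (CommRingCat.of A)).hom h1
    rw [map_one] at h3
    exact ((h3.trans (congr($((Scheme.ΓSpecIso (CommRingCat.of A)).inv_hom_id) _)))).symm
  rw [← (MonoidAlgebra.of k (Multiplicative M)).map_one] at h2
  exact hm (Multiplicative.ofAdd.injective ((MonoidAlgebra.of_injective h2).trans ofAdd_zero.symm))

theorem inl_eq : ((algebraMap k (DualNumber k)).comp (algebraMap k k) : k →+* DualNumber k) =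
    TrivSqZeroExt.inlHom k k := RingHom.ext fun r => by simp [TrivSqZeroExt.algebraMap_eq_inl']

/-- The identity between two presentations of the same scheme over a base. -/
def mkId {S X : Scheme.{u}} {f g : X ⟶ S} (e : f = g) : Over.mk f ⟶ Over.mk g :=
  Over.homMk (𝟙 X) (by show 𝟙 X ≫ g = f; rw [Category.id_comp, e])

theorem mkId_left {S X : Scheme.{u}} {f g : X ⟶ S} (e : f = g) : (mkId e).left = 𝟙 X := rfl

theorem mkId_mkId {S X : Scheme.{u}} {f g : X ⟶ S} (e : f = g) : mkId e ≫ mkId e.symm = 𝟙 (Over.mk f) :=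
  Over.OverMorphism.ext (Category.id_comp _)

theorem struct_eq : Spec.map (CommRingCat.ofHom (algebraMap k (DualNumber k))) ≫ fk =
    Spec.map (CommRingCat.ofHom (TrivSqZeroExt.inlHom k k)) :=
  (specMap_comp _ _).trans (congrArg (fun r : k →+* DualNumber k => Spec.map (CommRingCat.ofHom r)) inl_eq)

/-- Tangent vectors of the prelude as dual number points. -/
def tobHom : FieldPow.tob k k ⟶ dpt k fk := mkId (struct_eq (k := k)).symm

/-- The inverse identification. -/
def tobInv : dpt k fk ⟶ FieldPow.tob k k := mkId (struct_eq (k := k))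

/-- **Torsion of a one-parameter subgroup is central when the Lie algebra is nilpotent.** -/
theorem false_of_cocharacter [Smooth G.hom] [ConnectedSpace G.left]
    (hZ : ∀ (Z : Over (Spec (CommRingCat.of k))) [GrpObj Z] (z : Z ⟶ G) [IsMonHom z] [Mono z], SGA3x.IsMultTypeFT Z →
      (∀ (X : Over (Spec (CommRingCat.of k))) (x : X ⟶ Z) (g : X ⟶ G), (x ≫ z) * g = g * (x ≫ z)) → Red.IsTrivialGrp Z)
    {L : Type u} [LieRing L] [LieAlgebra k L] (md : LieS.Model G k fk L) (hL : LieRing.IsNilpotent L)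
    (c : Red.DS (Spec (CommRingCat.of k)) ℤ ⟶ G) [IsMonHom c] [Mono c] : False := by
  obtain ⟨p, hp⟩ := CharP.exists k
  let π : ℤ →+ ZMod p := (Int.castRingHom (ZMod p)).toAddMonoidHom
  haveI : Mono (Red.DSmap (Spec (CommRingCat.of k)) π) :=
    mono_DSmap π (ZMod.intCast_surjective)
  let Z := Red.DS (Spec (CommRingCat.of k)) (ZMod p)
  let z : Z ⟶ G := Red.DSmap (Spec (CommRingCat.of k)) π ≫ c
  haveI : IsMonHom (Red.DSmap (Spec (CommRingCat.of k)) π) := inferInstance
  haveI : IsMonHom z := by dsimp [z]; infer_instance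
  haveI : Mono z := mono_comp _ _
  haveI : AddGroup.FG (ZMod p) := AddGroup.fg_of_surjective (f := π) ZMod.intCast_surjective
  haveI : Fact (p ≠ 1) := ⟨CharP.char_ne_one k p⟩
  haveI : Nontrivial (ZMod p) := by
    rcases p with _ | _ | p
    · exact inferInstanceAs (Nontrivial ℤ)
    · exact absurd rfl (CharP.char_ne_one k 1)
    · haveI : Fact (1 < p + 1 + 1) := ⟨by omega⟩
      exact ZMod.nontrivial _
  have hMT : SGA3x.IsMultTypeFT Z := MTTorus.isMultTypeFT_DS _ _
  haveI : IsAffineHom G.hom := isAffineHom_of_isAffine G.hom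
  haveI : LocallyOfFiniteType G.hom := inferInstance
  obtain ⟨C, _, cj, hc, hcc, hcs⟩ := MTBridge.exists_centralizer Z G (MTBridge.locally_of_isMultTypeFT' Z hMT)
    inferInstance inferInstance z
  haveI := hc.1; haveI := hcc; haveI := hcs; haveI := hc.2.1
  have hiso : IsIso cj.left := S8034.isIso_of_tangent cj fun P hP => by
    have hv : tobInv ≫ P ∈ Lie G k fk := by
      rw [mem_Lie_iff]
      have e : zeroSec k fk ≫ tobInv = (Over.homMk (U := pt k fk) (V := 𝟙_ _) fk) ≫ FieldPow.tzero k k :=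
        Over.OverMorphism.ext (by
          show Spec.map _ ≫ 𝟙 _ = fk ≫ Spec.map _
          rw [Category.comp_id, specMap_comp]
          congr 2)
      rw [← Category.assoc, e, Category.assoc, hP, MonObj.comp_one]
    obtain ⟨Q, hQ⟩ := (hc.2.2 (dpt k fk) (tobInv ≫ P)).2 fun X' x a => by
      have h := commute_of_nilpotent md hL c ⟨tobInv ≫ P, hv⟩ x (a ≫ Red.DSmap _ π) (fun m hm => by
        rw [ch_DSmap]
        have : π m = 0 := (CharP.intCast_eq_zero_iff k p m).1 hm |> (ZMod.intCast_zmod_eq_zero_iff_dvd m p).2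
        simp only [toAdd_ofAdd, this, ofAdd_zero, map_one])
      simpa only [z, Category.assoc] using h
    refine ⟨tobHom ≫ Q, ?_, ?_⟩
    · rw [← cancel_mono cj, Category.assoc, Category.assoc, hQ, MonObj.one_comp]
      have e : tobHom ≫ tobInv = 𝟙 (FieldPow.tob k k) := mkId_mkId _
      rw [reassoc_of% e]
      exact hP
    · rw [Category.assoc, hQ]
      have e : tobHom ≫ tobInv = 𝟙 (FieldPow.tob k k) := mkId_mkId _
      rw [reassoc_of% e]
  haveI : IsIso ((Over.forget _).map cj) := hiso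
  haveI : IsIso cj := isIso_of_reflects_iso cj (Over.forget _)
  refine not_isTrivialGrp_DS (k := k) (ZMod p) (hZ Z z hMT fun X x g => ?_)
  have h := (hc.2.2 X g).1 ⟨g ≫ inv cj, by rw [Category.assoc, IsIso.inv_hom_id, Category.comp_id]⟩ X (𝟙 X) x
  rw [Category.id_comp] at h
  exact h.symm

end Groth.Agent.LieWeight
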