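import Groth.Agent.LieWeight.Weight
import Groth.Agent.LieAlg.Jacobi

/-!
# The derivative of a one-parameter subgroup acts on weight vectors by the weight
-/

set_option autoImplicit false
set_option backward.isDefEq.respectTransparency false
set_option linter.style.haveILetI false
set_option linter.unusedSectionVars false
set_option maxHeartbeats 800000
set_option synthInstance.maxHeartbeats 400000

universe u

open CategoryTheory MonoidalCategory CartesianMonoidalCategory MonObj AlgebraicGeometry LieS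
open Groth.Agent.TanAdd Groth.Agent.HomDiag LaurentPolynomial
open scoped CategoryTheory.Obj

noncomputable section

namespace Groth.Agent.LieWeight

variable {k : Type u} [Field k] {G : Over (Spec (CommRingCat.of k))} [GrpObj G] [IsAffine G.left]
variable {B : Type u} [CommRing B] (f : Spec (CommRingCat.of B) ⟶ Spec (CommRingCat.of k))

/-- The character `m ↦ 1 + mε`. -/
def εchar : Multiplicative ℤ →* DualNumber B where
  toFun m := TrivSqZeroExt.inl 1 + TrivSqZeroExt.inr (m.toAdd : B)
  map_one' := by ext <;> simp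
  map_mul' a b := by
    ext
    · simp
    · simp [add_comm]

/-- The specialisation at `1 + ε`. -/
def θε : LaurentPolynomial B →+* DualNumber B := evalT (algebraMap B (DualNumber B)) εchar

theorem θε_comp : (θε (B := B)).comp C = algebraMap B (DualNumber B) := RingHom.ext fun r => evalT_C _ _ r

theorem hθε : Spec.map (CommRingCat.ofHom (θε (B := B))) ≫ fT f = (dpt B f).hom := by
  rw [fT, ← Category.assoc, specMap_comp, θε_comp]
  rfl

theorem inv_of_conj {H : Type u} [Group H] (a b d : H) (hc : Commute d b) (h : a * b * a⁻¹ = b * d) :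
    d⁻¹ = b * a * b⁻¹ * a⁻¹ := by
  have h7 := hc.inv_left.eq
  calc d⁻¹ = b * d⁻¹ * b⁻¹ := by rw [← h7, mul_inv_cancel_right]
    _ = b * (b * d)⁻¹ := by group
    _ = _ := by rw [← h]; group

theorem hAlg : Spec.map (CommRingCat.ofHom (algebraMap B (DualNumber B))) ≫ f = (dpt B f).hom := rfl

theorem second_coord (v : Lie G B f) (m : ℤ) :
    ((algebraMap B (DualNumber B) (m : B) * DualNumber.eps) • pl (algebraMap B (DualNumber B)) (hAlg f) v).1 =
      LieAlg.c12 ((m : B) • v) := by
  refine Over.OverMorphism.ext ?_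
  show Spec.map _ ≫ Spec.map _ ≫ v.1.left = Spec.map _ ≫ Spec.map _ ≫ v.1.left
  rw [← Category.assoc, ← Category.assoc, specMap_comp, specMap_comp]
  congr 3
  refine RingHom.ext fun z => ?_
  ext <;> simp [scaleHom, bcHom, mulHom, TrivSqZeroExt.algebraMap_eq_inl', mul_comm]

theorem Ad_weight {f' : Spec (CommRingCat.of (DualNumber B)) ⟶ Spec (CommRingCat.of k)}
    (hθ : Spec.map (CommRingCat.ofHom (θε (B := B))) ≫ fT f = f')
    (hA : Spec.map (CommRingCat.ofHom (algebraMap B (DualNumber B))) ≫ f = f')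
    (g : pt (LaurentPolynomial B) (fT f) ⟶ G) (v : Lie G B f) (m : ℤ)
    (hv : Ad G (LaurentPolynomial B) (fT f) g (pl C rfl v) = (T m : LaurentPolynomial B) • pl C rfl v) :
    Ad G (DualNumber B) f' (qpt (θε (B := B)) hθ ≫ g) (pl (algebraMap B (DualNumber B)) hA v) =
      pl (algebraMap B (DualNumber B)) hA v *
        (algebraMap B (DualNumber B) (m : B) * DualNumber.eps) • pl (algebraMap B (DualNumber B)) hA v := by
  have hv' : pl (G := G) (θε (B := B)) hθ (pl C rfl v) = pl (algebraMap B (DualNumber B)) hA v := dv_injective (funext fun a => by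
    rw [dv_pl, dv_pl, dv_pl]; exact evalT_C _ _ _)
  have hTm : θε (B := B) (T m) = 1 + algebraMap B (DualNumber B) (m : B) * DualNumber.eps := by
    rw [θε, evalT_T]
    ext <;> simp [εchar, TrivSqZeroExt.algebraMap_eq_inl']
  calc Ad G (DualNumber B) f' (qpt (θε (B := B)) hθ ≫ g) (pl (algebraMap B (DualNumber B)) hA v)
      = Ad G (DualNumber B) f' (qpt (θε (B := B)) hθ ≫ g) (pl (G := G) (θε (B := B)) hθ (pl C rfl v)) := by rw [hv']
    _ = pl (G := G) (θε (B := B)) hθ (Ad G (LaurentPolynomial B) (fT f) g (pl C rfl v)) := (pl_Ad (θε (B := B)) hθ g _).symm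
    _ = pl (G := G) (θε (B := B)) hθ ((T m : LaurentPolynomial B) • pl C rfl v) := by rw [hv]
    _ = θε (T m) • pl (G := G) (θε (B := B)) hθ (pl C rfl v) := pl_smul (θε (B := B)) hθ _ _
    _ = _ := by rw [hv', hTm, LieAlg.lie_add_smul, LieAlg.lie_one_smul]

/-- **The bracket of a weight vector with the derivative of the one-parameter subgroup.** -/
theorem exists_derivative (c : Red.DS (Spec (CommRingCat.of k)) ℤ ⟶ G) [IsMonHom c] :
    ∃ h : Lie G B f, ∀ (v : Lie G B f) (m : ℤ),
      Ad G (LaurentPolynomial B) (fT f) (xT f ≫ c) (pl C rfl v) = (T m : LaurentPolynomial B) • pl C rfl v →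
      IsBracket G B f v h ((m : B) • v)⁻¹ := by
  let y : pt (DualNumber B) (dpt B f).hom ⟶ G := qpt (θε (B := B)) (hθε f) ≫ xT f ≫ c
  have hy : zeroSec B f ≫ (y : dpt B f ⟶ G) = 1 := by
    let e0 : LaurentPolynomial B →+* B := (TrivSqZeroExt.fstHom B B B).toRingHom.comp θε
    have he0 : Spec.map (CommRingCat.ofHom e0) ≫ fT f = f := by
      rw [← specMap_comp, Category.assoc, hθε]
      show Spec.map _ ≫ Spec.map _ ≫ f = f
      rw [← Category.assoc, specMap_comp, fstHom_comp_algebraMap, CommRingCat.ofHom_id]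
      erw [Spec.map_id]
      exact Category.id_comp f
    have e : zeroSec B f ≫ (qpt θε (hθε f) : dpt B f ⟶ _) = qpt e0 he0 := Over.OverMorphism.ext (by
      show Spec.map _ ≫ Spec.map _ = Spec.map _
      rw [specMap_comp])
    have hx : qpt e0 he0 ≫ xT f = 1 := ch_ext fun m => by
      rw [ch_qpt_xT, ch_one]
      show (Scheme.ΓSpecIso (CommRingCat.of B)).inv (TrivSqZeroExt.fst (evalT _ εchar (T m.toAdd))) = 1
      rw [evalT_T]
      simp [εchar]
    show zeroSec B f ≫ (qpt θε (hθε f) : dpt B f ⟶ _) ≫ xT f ≫ c = 1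
    rw [← Category.assoc, e, ← Category.assoc, hx, MonObj.one_comp]
  refine ⟨⟨y, hy⟩, fun v m hv => ?_⟩
  have h6 : LieAlg.c12 ((m : B) • v)⁻¹ = (LieAlg.c12 ((m : B) • v))⁻¹ :=
    eq_inv_of_mul_eq_one_left (by rw [← LieAlg.c12_mul, inv_mul_cancel, LieAlg.c12_one])
  refine h6.trans (inv_of_conj (LieAlg.c1 (⟨y, hy⟩ : Lie G B f)) (LieAlg.c2 v) (LieAlg.c12 ((m : B) • v))
    (LieAlg.c12_commute_c2 _ v) ?_)
  rw [← second_coord f v m]
  exact congrArg Subtype.val (Ad_weight f (hθε f) (hAlg f) (xT f ≫ c) v m hv)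

end Groth.Agent.LieWeight
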