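import Groth.Agent.LieAlg.Module
import Mathlib.Algebra.Polynomial.Laurent

/-!
# Tangent vectors of an affine group as derivations
-/

set_option autoImplicit false
set_option backward.isDefEq.respectTransparency false
set_option linter.style.haveILetI false
set_option maxHeartbeats 1000000

universe u

open CategoryTheory MonoidalCategory CartesianMonoidalCategory MonObj AlgebraicGeometry LieS
open Groth.Agent.TanAdd

noncomputable section

namespace Groth.Agent.LieWeight

variable {k : Type u} [Field k] {G : Over (Spec (CommRingCat.of k))} [GrpObj G] [IsAffine G.left]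
variable {B : Type u} [CommRing B] {f : Spec (CommRingCat.of B) ⟶ Spec (CommRingCat.of k)}

/-- The ring map of a point of an affine scheme. -/
def rep {X : Scheme.{u}} [IsAffine X] {R : Type u} [CommRing R] (t : Spec (CommRingCat.of R) ⟶ X) :
    Γ(X, ⊤) →+* R :=
  (Spec.preimage (t ≫ X.isoSpec.hom)).hom

theorem specMap_rep {X : Scheme.{u}} [IsAffine X] {R : Type u} [CommRing R] (t : Spec (CommRingCat.of R) ⟶ X) :
    Spec.map (CommRingCat.ofHom (rep t)) ≫ X.isoSpec.inv = t := by
  rw [rep, CommRingCat.ofHom_hom, Spec.map_preimage, Category.assoc, Iso.hom_inv_id, Category.comp_id]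

theorem rep_eq {X : Scheme.{u}} [IsAffine X] {R : Type u} [CommRing R] {t : Spec (CommRingCat.of R) ⟶ X}
    {φ : Γ(X, ⊤) →+* R} (h : Spec.map (CommRingCat.ofHom φ) ≫ X.isoSpec.inv = t) : rep t = φ :=
  congrArg CommRingCat.Hom.hom (Spec.map_injective ((cancel_mono X.isoSpec.inv).1 ((specMap_rep t).trans h.symm)))

theorem rep_comp {X : Scheme.{u}} [IsAffine X] {R R' : Type u} [CommRing R] [CommRing R'] (h : R →+* R')
    (t : Spec (CommRingCat.of R) ⟶ X) : rep (Spec.map (CommRingCat.ofHom h) ≫ t) = h.comp (rep t) := by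
  refine rep_eq ?_
  rw [CommRingCat.ofHom_comp, Spec.map_comp, Category.assoc, specMap_rep]

theorem rep_injective {X : Scheme.{u}} [IsAffine X] {R : Type u} [CommRing R] :
    Function.Injective (rep : (Spec (CommRingCat.of R) ⟶ X) → _) := fun t t' h => by
  rw [← specMap_rep t, ← specMap_rep t', h]

variable (G) in
/-- The unit as a ring map. -/
def uB (f : Spec (CommRingCat.of B) ⟶ Spec (CommRingCat.of k)) : Γ(G.left, ⊤) →+* B := rep (X := G.left) (1 : pt B f ⟶ G).left

variable (G) in
/-- The structure map of the coordinate ring. -/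
def sG : k →+* Γ(G.left, ⊤) := (Spec.preimage (G.left.isoSpec.inv ≫ G.hom)).hom

theorem specMap_sG : Spec.map (CommRingCat.ofHom (sG G)) = G.left.isoSpec.inv ≫ G.hom := Spec.map_preimage _

theorem uB_sG (f : Spec (CommRingCat.of B) ⟶ Spec (CommRingCat.of k)) :
    Spec.map (CommRingCat.ofHom ((uB G f).comp (sG G))) = f := by
  rw [CommRingCat.ofHom_comp, Spec.map_comp, specMap_sG, ← Category.assoc, uB, specMap_rep]
  exact Over.w (1 : pt B f ⟶ G)

/-- The derivation of a tangent vector. -/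
def dv (v : Lie G B f) (a : Γ(G.left, ⊤)) : B := (rep (R := DualNumber B) (X := G.left) v.1.left a).snd

theorem rep_fst (v : Lie G B f) (a : Γ(G.left, ⊤)) : (rep (R := DualNumber B) (X := G.left) v.1.left a).fst = uB G f a := by
  have h : (zeroSec B f ≫ v.1).left = (1 : pt B f ⟶ G).left := congrArg CommaMorphism.left v.2
  have h' := rep_comp (X := G.left) (TrivSqZeroExt.fstHom B B B).toRingHom v.1.left
  rw [uB, ← h]
  exact (congr($h' a)).symm

theorem dv_injective : Function.Injective (dv : Lie G B f → Γ(G.left, ⊤) → B) := fun v w h =>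
  Subtype.ext (Over.OverMorphism.ext (rep_injective (X := G.left) (RingHom.ext fun a =>
    TrivSqZeroExt.ext ((rep_fst v a).trans (rep_fst w a).symm) (congrFun h a))))

theorem dv_leibniz (v : Lie G B f) (a b : Γ(G.left, ⊤)) :
    dv v (a * b) = uB G f a * dv v b + dv v a * uB G f b := by
  rw [dv, map_mul, DualNumber.snd_mul, rep_fst, rep_fst]
  rfl

theorem dv_add (v : Lie G B f) (a b : Γ(G.left, ⊤)) : dv v (a + b) = dv v a + dv v b := by
  rw [dv, map_add]
  rfl

theorem dv_sG (v : Lie G B f) (c : k) : dv v (sG G c) = 0 := by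
  have h : (rep (R := DualNumber B) (X := G.left) v.1.left).comp (sG G) =
      (algebraMap B (DualNumber B)).comp ((uB G f).comp (sG G)) := by
    have e : Spec.map (CommRingCat.ofHom (R := k) (S := DualNumber B)
          ((rep (R := DualNumber B) (X := G.left) v.1.left).comp (sG G))) =
        Spec.map (CommRingCat.ofHom (R := k) (S := DualNumber B)
          ((algebraMap B (DualNumber B)).comp ((uB G f).comp (sG G)))) := by
      rw [← specMap_comp (sG G) (rep (R := DualNumber B) (X := G.left) v.1.left),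
        ← specMap_comp ((uB G f).comp (sG G)) (algebraMap B (DualNumber B)), uB_sG, specMap_sG, ← Category.assoc,
        specMap_rep]
      exact Over.w v.1
    exact congrArg CommRingCat.Hom.hom (Spec.map_injective e)
  show ((rep (R := DualNumber B) (X := G.left) v.1.left).comp (sG G) c).snd = 0
  rw [h]
  simp [TrivSqZeroExt.algebraMap_eq_inl']

theorem rep_thMap {M N : Type u} [AddCommGroup M] [Module B M] [Module Bᵐᵒᵖ M] [IsCentralScalar B M]
    [AddCommGroup N] [Module B N] [Module Bᵐᵒᵖ N] [IsCentralScalar B N] (ψ : M →ₗ[B] N) (t : th B f M ⟶ G)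
    (a : Γ(G.left, ⊤)) :
    rep (R := TrivSqZeroExt B N) (X := G.left) (thMap B f ψ ≫ t).left a =
      TrivSqZeroExt.map ψ (rep (R := TrivSqZeroExt B M) (X := G.left) t.left a) :=
  congr($(rep_comp (X := G.left) (TrivSqZeroExt.map ψ).toRingHom t.left) a)

theorem dv_mul (v w : Lie G B f) (a : Γ(G.left, ⊤)) : dv (v * w) a = dv v a + dv w a := by
  let v' : th B f B ⟶ G := v.1
  let w' : th B f B ⟶ G := w.1
  let P : th B f (B × B) ⟶ G := (thMap B f (LinearMap.inl B B B) ≫ v') * (thMap B f (LinearMap.inr B B B) ≫ w')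
  have hv : thMap B f (0 : B →ₗ[B] B) ≫ v' = 1 := by
    rw [← proj_zeroSec]
    exact (Category.assoc _ _ _).trans ((congrArg (LieS.proj B f ≫ ·) v.2).trans (MonObj.comp_one _))
  have hw : thMap B f (0 : B →ₗ[B] B) ≫ w' = 1 := by
    rw [← proj_zeroSec]
    exact (Category.assoc _ _ _).trans ((congrArg (LieS.proj B f ≫ ·) w.2).trans (MonObj.comp_one _))
  have hψ : ∀ ψ : B × B →ₗ[B] B, thMap B f ψ ≫ P = (thMap B f (ψ ∘ₗ LinearMap.inl B B B) ≫ v') *
      (thMap B f (ψ ∘ₗ LinearMap.inr B B B) ≫ w') := fun ψ => by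
    rw [MonObj.comp_mul, ← Category.assoc, ← Category.assoc, thMap_comp, thMap_comp]
  have h1 : thMap B f (LinearMap.fst B B B) ≫ P = v' := by
    rw [hψ, LinearMap.fst_comp_inl, LinearMap.fst_comp_inr, thMap_id, hw, _root_.mul_one, Category.id_comp]
  have h2 : thMap B f (LinearMap.snd B B B) ≫ P = w' := by
    rw [hψ, LinearMap.snd_comp_inr, LinearMap.snd_comp_inl, thMap_id, hv, _root_.one_mul, Category.id_comp]
  have h3 : thMap B f (LinearMap.fst B B B + LinearMap.snd B B B) ≫ P = ((v * w).1 : th B f B ⟶ G) := by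
    rw [hψ, show (LinearMap.fst B B B + LinearMap.snd B B B) ∘ₗ LinearMap.inl B B B = LinearMap.id by ext; simp,
      show (LinearMap.fst B B B + LinearMap.snd B B B) ∘ₗ LinearMap.inr B B B = LinearMap.id by ext; simp,
      thMap_id, Category.id_comp, Category.id_comp]
    rfl
  have e : ∀ (ψ : B × B →ₗ[B] B) (u : Lie G B f), thMap B f ψ ≫ P = (u.1 : th B f B ⟶ G) →
      dv u a = ψ (rep (R := TrivSqZeroExt B (B × B)) (X := G.left) P.left a).snd := fun ψ u hu => by
    have h := rep_thMap ψ P a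
    rw [hu] at h
    exact (congrArg TrivSqZeroExt.snd h).trans (TrivSqZeroExt.snd_map _ _)
  rw [e _ _ h3, e _ _ h1, e _ _ h2]
  rfl

theorem dv_one (a : Γ(G.left, ⊤)) : dv (1 : Lie G B f) a = 0 := by
  have h := dv_mul (1 : Lie G B f) 1 a
  rw [_root_.one_mul] at h
  exact left_eq_add.1 h

theorem dv_prod {I : Type} [DecidableEq I] (s : Finset I) (v : I → Lie G B f) (a : Γ(G.left, ⊤)) :
    dv (∏ i ∈ s, v i) a = ∑ i ∈ s, dv (v i) a := by
  induction s using Finset.induction_on with
  | empty => rw [Finset.prod_empty, Finset.sum_empty, dv_one]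
  | insert i s hi ih => rw [Finset.prod_insert hi, Finset.sum_insert hi, dv_mul, ih]

theorem dv_smul (b : B) (v : Lie G B f) (a : Γ(G.left, ⊤)) : dv (b • v) a = b * dv v a := by
  show (rep (R := DualNumber B) (X := G.left) (Spec.map (CommRingCat.ofHom (scaleHom b)) ≫ v.1.left) a).snd = _
  rw [rep_comp]
  simp [scaleHom, dv, TrivSqZeroExt.algebraMap_eq_inl']
  ring

/-- A derivation at the unit is a tangent vector. -/
theorem exists_of_der (δ : Γ(G.left, ⊤) → B) (hadd : ∀ a b, δ (a + b) = δ a + δ b)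
    (hmul : ∀ a b, δ (a * b) = uB G f a * δ b + δ a * uB G f b) (hc : ∀ c, δ (sG G c) = 0) :
    ∃ v : Lie G B f, ∀ a, dv v a = δ a := by
  have h1 : δ 1 = 0 := by simpa using hc 1
  have h0 : δ 0 = 0 := by simpa using hc 0
  let φ : Γ(G.left, ⊤) →+* DualNumber B :=
    { toFun := fun a => TrivSqZeroExt.inl (uB G f a) + TrivSqZeroExt.inr (δ a)
      map_one' := by ext <;> simp [h1]
      map_mul' := fun a b => by ext <;> simp [hmul, mul_comm]
      map_zero' := by ext <;> simp [h0]
      map_add' := fun a b => by ext <;> simp [hadd, add_comm, add_left_comm, add_assoc] }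
  have hφ : φ.comp (sG G) = (algebraMap B (DualNumber B)).comp ((uB G f).comp (sG G)) :=
    RingHom.ext fun c => by ext <;> simp [φ, hc, TrivSqZeroExt.algebraMap_eq_inl']
  let P : dpt B f ⟶ G := Over.homMk (Spec.map (CommRingCat.ofHom φ) ≫ G.left.isoSpec.inv) (by
    rw [Category.assoc, ← specMap_sG, ← Spec.map_comp, ← CommRingCat.ofHom_comp, hφ, CommRingCat.ofHom_comp,
      Spec.map_comp, uB_sG]
    rfl)
  have hP : rep (R := DualNumber B) (X := G.left) P.left = φ := rep_eq rfl
  have hmem : P ∈ Lie G B f := by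
    rw [mem_Lie_iff]
    refine Over.OverMorphism.ext (rep_injective (X := G.left) (RingHom.ext fun a => ?_))
    show rep (X := G.left) (Spec.map (CommRingCat.ofHom (TrivSqZeroExt.fstHom B B B).toRingHom) ≫ P.left) a = uB G f a
    rw [rep_comp, RingHom.comp_apply, hP]
    simp [φ]
  exact ⟨⟨P, hmem⟩, fun a => by rw [dv, hP]; simp [φ]⟩

section Pull

variable {B' : Type u} [CommRing B'] {f' : Spec (CommRingCat.of B') ⟶ Spec (CommRingCat.of k)}
  (h : B →+* B') (hf : Spec.map (CommRingCat.ofHom h) ≫ f = f')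

/-- The map of bases. -/
def qpt : pt B' f' ⟶ pt B f := Over.homMk (Spec.map (CommRingCat.ofHom h)) hf

/-- The map of dual numbers. -/
def qdual : dpt B' f' ⟶ dpt B f := Over.homMk (Spec.map (CommRingCat.ofHom (bcHom h))) (by
  show Spec.map _ ≫ Spec.map _ ≫ f = Spec.map _ ≫ f'
  rw [← Category.assoc, specMap_comp, bcHom_comp_algebraMap, ← specMap_comp, Category.assoc, hf])

theorem qdual_proj : qdual h hf ≫ proj B f = proj B' f' ≫ qpt h hf := Over.OverMorphism.ext (by
  show Spec.map _ ≫ Spec.map _ = Spec.map _ ≫ Spec.map _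
  rw [specMap_comp, specMap_comp, bcHom_comp_algebraMap])

theorem zeroSec_qdual : zeroSec B' f' ≫ qdual h hf = qpt h hf ≫ zeroSec B f := Over.OverMorphism.ext (by
  show Spec.map _ ≫ Spec.map _ = Spec.map _ ≫ Spec.map _
  rw [specMap_comp, specMap_comp, fstHom_comp_bcHom])

/-- Pulling back tangent vectors. -/
def pl : Lie G B f →* Lie G B' f' where
  toFun v := ⟨qdual h hf ≫ v.1, by
    rw [mem_Lie_iff, ← Category.assoc, zeroSec_qdual, Category.assoc, (mem_Lie_iff G B f v.1).1 v.2, MonObj.comp_one]⟩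
  map_one' := Subtype.ext (MonObj.comp_one _)
  map_mul' v w := Subtype.ext (MonObj.comp_mul _ _ _)

theorem pl_val (v : Lie G B f) : (pl h hf v).1 = qdual h hf ≫ v.1 := rfl

theorem dv_pl (v : Lie G B f) (a : Γ(G.left, ⊤)) : dv (pl h hf v) a = h (dv v a) := by
  show (rep (R := DualNumber B') (X := G.left) (Spec.map (CommRingCat.ofHom (bcHom h)) ≫ v.1.left) a).snd = _
  rw [rep_comp]
  simp [bcHom, dv, TrivSqZeroExt.algebraMap_eq_inl']

include hf in
theorem uB_comp (a : Γ(G.left, ⊤)) : uB G f' a = h (uB G f a) := by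
  have e : qpt h hf ≫ (1 : pt B f ⟶ G) = 1 := MonObj.comp_one _
  rw [uB, ← e]
  exact congr($(rep_comp (X := G.left) h (1 : pt B f ⟶ G).left) a)

theorem pl_smul (b : B) (v : Lie G B f) : pl h hf (b • v) = h b • pl h hf v :=
  dv_injective (funext fun a => by rw [dv_pl, dv_smul, dv_smul, dv_pl, map_mul])

theorem pl_Ad (g : pt B f ⟶ G) (v : Lie G B f) :
    pl h hf (Ad G B f g v) = Ad G B' f' (qpt h hf ≫ g) (pl h hf v) := by
  refine Subtype.ext ?_
  show qdual h hf ≫ ((proj B f ≫ g) * v.1 * (proj B f ≫ g)⁻¹) =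
    (proj B' f' ≫ qpt h hf ≫ g) * (qdual h hf ≫ v.1) * (proj B' f' ≫ qpt h hf ≫ g)⁻¹
  rw [MonObj.comp_mul, MonObj.comp_mul, GrpObj.comp_inv, ← Category.assoc, qdual_proj, Category.assoc]

end Pull

omit [IsAffine G.left] in
theorem Ad_mul (g g' : pt B f ⟶ G) (v : Lie G B f) : Ad G B f (g * g') v = Ad G B f g (Ad G B f g' v) := by
  refine Subtype.ext ?_
  show (proj B f ≫ (g * g')) * v.1 * (proj B f ≫ (g * g'))⁻¹ =
    (proj B f ≫ g) * ((proj B f ≫ g') * v.1 * (proj B f ≫ g')⁻¹) * (proj B f ≫ g)⁻¹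
  rw [MonObj.comp_mul]
  group

omit [IsAffine G.left] in
theorem Ad_smul (g : pt B f ⟶ G) (b : B) (v : Lie G B f) : Ad G B f g (b • v) = b • Ad G B f g v := by
  refine Subtype.ext ?_
  have hsp : scale B f b ≫ proj B f = proj B f := Over.OverMorphism.ext (by
    show Spec.map _ ≫ Spec.map _ = Spec.map _
    rw [specMap_comp, scaleHom_comp_algebraMap])
  show (proj B f ≫ g) * (scale B f b ≫ v.1) * (proj B f ≫ g)⁻¹ =
    scale B f b ≫ ((proj B f ≫ g) * v.1 * (proj B f ≫ g)⁻¹)
  rw [MonObj.comp_mul, MonObj.comp_mul, GrpObj.comp_inv, ← Category.assoc, hsp]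

end Groth.Agent.LieWeight
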