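import Groth.Agent.LieWeight.Der
import Groth.Agent.HomDiag.Points
import Mathlib.RingTheory.FiniteType

/-!
# Weights of a one-parameter subgroup on the tangent vectors
-/

set_option autoImplicit false
set_option backward.isDefEq.respectTransparency false
set_option linter.style.haveILetI false
set_option linter.unusedSectionVars false
set_option maxHeartbeats 2000000
set_option synthInstance.maxHeartbeats 400000

universe u

open CategoryTheory MonoidalCategory CartesianMonoidalCategory MonObj AlgebraicGeometry LieS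
open Groth.Agent.TanAdd Groth.Agent.HomDiag LaurentPolynomial
open scoped CategoryTheory.Obj

noncomputable section

namespace Groth.Agent.LieWeight

variable {R R' : Type u} [CommRing R] [CommRing R']

/-- The ring map of Laurent polynomials given by a character. -/
def evalT (φ : R →+* R') (χ : Multiplicative ℤ →* R') : LaurentPolynomial R →+* R' :=
  AddMonoidAlgebra.liftNCRingHom φ χ fun _ _ => Commute.all _ _

theorem evalT_single (φ : R →+* R') (χ : Multiplicative ℤ →* R') (n : ℤ) (r : R) :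
    evalT φ χ (AddMonoidAlgebra.single n r) = φ r * χ (Multiplicative.ofAdd n) :=
  AddMonoidAlgebra.liftNC_single _ _ _ _

theorem evalT_C (φ : R →+* R') (χ : Multiplicative ℤ →* R') (r : R) : evalT φ χ (C r) = φ r := by
  show evalT φ χ (AddMonoidAlgebra.single 0 r) = _
  rw [evalT_single, ofAdd_zero, map_one, _root_.mul_one]

theorem evalT_T (φ : R →+* R') (χ : Multiplicative ℤ →* R') (n : ℤ) :
    evalT φ χ (T n) = χ (Multiplicative.ofAdd n) := by
  show evalT φ χ (AddMonoidAlgebra.single n 1) = _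
  rw [evalT_single, map_one, _root_.one_mul]

/-- The powers of the variable. -/
def Tchar : Multiplicative ℤ →* LaurentPolynomial R where
  toFun m := T m.toAdd
  map_one' := T_zero
  map_mul' a b := T_add _ _

theorem coeff_C_mul_T (r : R) (n m : ℤ) : (C r * T n).coeff m = if n = m then r else 0 := by
  rw [← single_eq_C_mul_T, AddMonoidAlgebra.coeff_single, Finsupp.single_apply]

theorem coeff_C_mul (r : R) (p : LaurentPolynomial R) (m : ℤ) : (C r * p).coeff m = r * p.coeff m := by
  induction p using LaurentPolynomial.induction_on' with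
  | add p q hp hq =>
    rw [mul_add, AddMonoidAlgebra.coeff_add, AddMonoidAlgebra.coeff_add, Finsupp.add_apply, Finsupp.add_apply, hp, hq,
      mul_add]
  | C_mul_T n a =>
    rw [← _root_.mul_assoc, ← map_mul, coeff_C_mul_T, coeff_C_mul_T]
    split <;> simp

/-- Coefficientwise characterisation of a map separating the variable. -/
theorem coeff_evalT_diag (p : LaurentPolynomial R) (m : ℤ) :
    (evalT ((C : LaurentPolynomial R →+* _).comp C)
      { toFun := fun n => C (T n.toAdd) * T n.toAdd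
        map_one' := by simp
        map_mul' := fun a b => by simp only [toAdd_mul, T_add, map_mul]; ring } p).coeff m =
      C (p.coeff m) * T m := by
  induction p using LaurentPolynomial.induction_on' with
  | add p q hp hq =>
    rw [map_add, AddMonoidAlgebra.coeff_add, Finsupp.add_apply, hp, hq, AddMonoidAlgebra.coeff_add, Finsupp.add_apply,
      map_add, add_mul]
  | C_mul_T n a =>
    rw [map_mul, evalT_C, evalT_T]
    simp only [MonoidHom.coe_mk, OneHom.coe_mk, toAdd_ofAdd, RingHom.coe_comp, Function.comp_apply]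
    rw [← _root_.mul_assoc, ← map_mul, coeff_C_mul_T, coeff_C_mul_T]
    split
    · subst_vars; rfl
    · simp

theorem eq_sum (p : LaurentPolynomial R) (s : Finset ℤ) (hs : ∀ m ∉ s, p.coeff m = 0) :
    p = ∑ m ∈ s, C (p.coeff m) * T m := by
  refine LaurentPolynomial.ext fun a => ?_
  rw [AddMonoidAlgebra.coeff_sum, Finsupp.finset_sum_apply]
  simp only [coeff_C_mul_T, Finset.sum_ite_eq']
  split
  · rfl
  · exact hs a ‹_›

variable {k : Type u} [Field k] {G : Over (Spec (CommRingCat.of k))} [GrpObj G] [IsAffine G.left]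
variable {B : Type u} [CommRing B] (f : Spec (CommRingCat.of B) ⟶ Spec (CommRingCat.of k))

/-- The base of Laurent polynomials. -/
abbrev fT : Spec (CommRingCat.of (LaurentPolynomial B)) ⟶ Spec (CommRingCat.of k) :=
  Spec.map (CommRingCat.ofHom (C : B →+* LaurentPolynomial B)) ≫ f

theorem appTop_comp_inv {P Q : Type u} [CommRing P] [CommRing Q] (h : P →+* Q) (x : P) :
    (Spec.map (CommRingCat.ofHom h)).appTop ((Scheme.ΓSpecIso (CommRingCat.of P)).inv x) =
      (Scheme.ΓSpecIso (CommRingCat.of Q)).inv (h x) :=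
  (congr($(Scheme.ΓSpecIso_inv_naturality (CommRingCat.ofHom h)) x)).symm

/-- The universal point of the multiplicative group. -/
theorem exists_univ :
    ∃ x : pt (LaurentPolynomial B) (fT f) ⟶ Red.DS (Spec (CommRingCat.of k)) ℤ,
      ∀ m, ch x m = (Scheme.ΓSpecIso (CommRingCat.of (LaurentPolynomial B))).inv (Tchar m) :=
  exists_ch (S := Spec (CommRingCat.of k)) (M := ℤ) (X := pt (LaurentPolynomial B) (fT f))
    (((Scheme.ΓSpecIso (CommRingCat.of (LaurentPolynomial B))).inv.hom.toMonoidHom).comp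
      (Tchar : Multiplicative ℤ →* LaurentPolynomial B) : Multiplicative ℤ →* Γ(Spec (CommRingCat.of (LaurentPolynomial B)), ⊤))

/-- The chosen universal point. -/
def xT : pt (LaurentPolynomial B) (fT f) ⟶ Red.DS (Spec (CommRingCat.of k)) ℤ := (exists_univ f).choose

theorem ch_qpt_xT {B' : Type u} [CommRing B'] {f' : Spec (CommRingCat.of B') ⟶ Spec (CommRingCat.of k)}
    (θ : LaurentPolynomial B →+* B') (hθ : Spec.map (CommRingCat.ofHom θ) ≫ fT f = f') (m : Multiplicative ℤ) :
    ch (qpt θ hθ ≫ xT f) m = (Scheme.ΓSpecIso (CommRingCat.of B')).inv (θ (T m.toAdd)) := by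
  rw [ch_comp, xT, (exists_univ f).choose_spec]
  exact appTop_comp_inv θ _

theorem xT_mul {B' : Type u} [CommRing B'] {f' : Spec (CommRingCat.of B') ⟶ Spec (CommRingCat.of k)}
    (θ θ₁ θ₂ : LaurentPolynomial B →+* B') (h : Spec.map (CommRingCat.ofHom θ) ≫ fT f = f')
    (h₁ : Spec.map (CommRingCat.ofHom θ₁) ≫ fT f = f') (h₂ : Spec.map (CommRingCat.ofHom θ₂) ≫ fT f = f')
    (hθ : ∀ n : ℤ, θ (T n) = θ₁ (T n) * θ₂ (T n)) :
    qpt θ h ≫ xT f = (qpt θ₁ h₁ ≫ xT f) * (qpt θ₂ h₂ ≫ xT f) :=
  ch_ext fun m => by rw [ch_mul, ch_qpt_xT, ch_qpt_xT, ch_qpt_xT, hθ, map_mul]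

theorem mul_comp' {A W : Over (Spec (CommRingCat.of k))} [GrpObj A] (u v : W ⟶ A) (c : A ⟶ G) [IsMonHom c] :
    (u * v) ≫ c = (u ≫ c) * (v ≫ c) := MonObj.mul_comp u v c

theorem qpt_xT_mul {B' : Type u} [CommRing B'] {f' : Spec (CommRingCat.of B') ⟶ Spec (CommRingCat.of k)}
    (c : Red.DS (Spec (CommRingCat.of k)) ℤ ⟶ G) [IsMonHom c]
    (θ θ₁ θ₂ : LaurentPolynomial B →+* B') (h : Spec.map (CommRingCat.ofHom θ) ≫ fT f = f')
    (h₁ : Spec.map (CommRingCat.ofHom θ₁) ≫ fT f = f') (h₂ : Spec.map (CommRingCat.ofHom θ₂) ≫ fT f = f')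
    (hθ : ∀ n : ℤ, θ (T n) = θ₁ (T n) * θ₂ (T n)) :
    qpt θ h ≫ xT f ≫ c = (qpt θ₁ h₁ ≫ xT f ≫ c) * (qpt θ₂ h₂ ≫ xT f ≫ c) :=
  (Category.assoc (qpt θ h) (xT f) c).symm.trans
    ((congrArg (· ≫ c) (xT_mul f θ θ₁ θ₂ h h₁ h₂ hθ)).trans
      ((mul_comp' _ _ c).trans (congrArg₂ (· * ·) (Category.assoc _ _ _) (Category.assoc _ _ _))))

theorem fin_gens [LocallyOfFiniteType G.hom] :
    ∃ s : Finset Γ(G.left, ⊤), ∀ (M : Type u) [CommRing M] (u : Γ(G.left, ⊤) →+* M) (δ : Γ(G.left, ⊤) → M),
      (∀ a b, δ (a + b) = δ a + δ b) → (∀ a b, δ (a * b) = u a * δ b + δ a * u b) → (∀ c, δ (sG G c) = 0) →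
      (∀ a ∈ s, δ a = 0) → ∀ a, δ a = 0 := by
  haveI : LocallyOfFiniteType (Spec.map (CommRingCat.ofHom (sG G))) := by rw [specMap_sG]; infer_instance
  have hft : (sG G).FiniteType := (HasRingHomProperty.Spec_iff (P := @LocallyOfFiniteType)).1 ‹_›
  letI : Algebra k Γ(G.left, ⊤) := (sG G).toAlgebra
  obtain ⟨s, hs⟩ := (Algebra.FiniteType.out (R := k) (A := Γ(G.left, ⊤)) (self := hft))
  refine ⟨s, fun M _ u δ hadd hmul hc hgen a => ?_⟩
  have ha : a ∈ Algebra.adjoin k (s : Set Γ(G.left, ⊤)) := hs ▸ Algebra.mem_top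
  induction ha using Algebra.adjoin_induction with
  | mem x hx => exact hgen x hx
  | algebraMap c => exact hc c
  | add x y _ _ hx hy => rw [hadd, hx, hy, add_zero]
  | mul x y _ _ hx hy => rw [hmul, hx, hy, mul_zero, zero_mul, add_zero]

/-- **Coefficients of a tangent vector over Laurent polynomials.** -/
theorem exists_coeff [LocallyOfFiniteType G.hom] (w : Lie G (LaurentPolynomial B) (fT f)) :
    ∃ (s : Finset ℤ) (v : ℤ → Lie G B f), (∀ m a, dv (v m) a = (dv w a).coeff m) ∧ ∀ m ∉ s, v m = 1 := by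
  classical
  have hu : ∀ a, uB G (fT f) a = C (uB G f a) := fun a => uB_comp C rfl a
  have hlm : ∀ m a b, (dv w (a * b)).coeff m = uB G f a * (dv w b).coeff m + (dv w a).coeff m * uB G f b :=
    fun m a b => by
      rw [dv_leibniz, hu, hu, mul_comm (dv w a), AddMonoidAlgebra.coeff_add, Finsupp.add_apply, coeff_C_mul,
        coeff_C_mul, mul_comm (uB G f b)]
  have hla : ∀ m a b, (dv w (a + b)).coeff m = (dv w a).coeff m + (dv w b).coeff m := fun m a b => by
    rw [dv_add, AddMonoidAlgebra.coeff_add, Finsupp.add_apply]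
  have hlc : ∀ m c, (dv w (sG G c)).coeff m = 0 := fun m c => by rw [dv_sG]; rfl
  choose v hv using fun m => exists_of_der (f := f) (fun a => (dv w a).coeff m) (hla m) (hlm m) (hlc m)
  obtain ⟨gens, hgens⟩ := fin_gens (G := G)
  refine ⟨gens.biUnion fun a => (dv w a).coeff.support, v, hv, fun m hm => dv_injective (funext fun a => ?_)⟩
  rw [dv_one, hv]
  refine hgens B (uB G f) (fun a => (dv w a).coeff m) (hla m) (hlm m) (hlc m) (fun a ha => ?_) a
  by_contra h
  exact hm (Finset.mem_biUnion.2 ⟨a, ha, Finsupp.mem_support_iff.2 h⟩)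

/-- **Weight decomposition of a tangent vector.** -/
theorem exists_weights [LocallyOfFiniteType G.hom] (c : Red.DS (Spec (CommRingCat.of k)) ℤ ⟶ G) [IsMonHom c]
    (v : Lie G B f) :
    ∃ (s : Finset ℤ) (vm : ℤ → Lie G B f), ∏ m ∈ s, vm m = v ∧
      ∀ m, Ad G (LaurentPolynomial B) (fT f) (xT f ≫ c) (pl C rfl (vm m)) = (T m : LaurentPolynomial B) • pl C rfl (vm m) := by
  classical
  let g := xT f ≫ c
  let w := Ad G (LaurentPolynomial B) (fT f) g (pl C rfl v)
  obtain ⟨s, vm, hvm, hs⟩ := exists_coeff f w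
  have hsum : ∀ a, dv w a = ∑ m ∈ s, C (dv (vm m) a) * T m := fun a => by
    simp only [hvm]
    exact eq_sum _ s fun m hm => by rw [← hvm, hs m hm, dv_one]
  refine ⟨s, vm, ?_, fun m => ?_⟩
  · -- evaluation at one
    let e1 : LaurentPolynomial B →+* B := evalT (RingHom.id B) 1
    have he : Spec.map (CommRingCat.ofHom e1) ≫ fT f = f := by
      rw [fT, ← Category.assoc, specMap_comp, show e1.comp C = RingHom.id B from RingHom.ext fun r => evalT_C _ _ r,
        CommRingCat.ofHom_id]
      erw [Spec.map_id]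
      exact Category.id_comp f
    have hpl : pl e1 he (pl C rfl v) = v := dv_injective (funext fun a => by
      rw [dv_pl, dv_pl]; exact evalT_C _ _ _)
    have hx : qpt e1 he ≫ xT f = 1 := ch_ext fun m => by
      rw [ch_qpt_xT, evalT_T, ch_one, MonoidHom.one_apply, map_one]
    have h1 : pl e1 he w = v := by
      rw [pl_Ad, hpl]
      have : qpt e1 he ≫ g = 1 := by rw [← Category.assoc, hx, MonObj.one_comp]
      rw [this]
      refine Subtype.ext ?_
      show (proj B f ≫ (1 : pt B f ⟶ G)) * v.1 * (proj B f ≫ (1 : pt B f ⟶ G))⁻¹ = v.1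
      rw [MonObj.comp_one, _root_.one_mul, inv_one, _root_.mul_one]
    refine dv_injective (funext fun a => ?_)
    conv_rhs => rw [← h1, dv_pl, hsum, map_sum]
    rw [dv_prod]
    refine Finset.sum_congr rfl fun m _ => ?_
    rw [map_mul, evalT_C, evalT_T, MonoidHom.one_apply, _root_.mul_one]
    rfl
  · -- comparison in two variables
    let B₁ := LaurentPolynomial B
    let f₁ := fT f
    let ιS : LaurentPolynomial B →+* LaurentPolynomial B₁ := evalT ((C : B₁ →+* _).comp C) Tchar
    let χd : Multiplicative ℤ →* LaurentPolynomial B₁ :=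
      { toFun := fun n => C (T n.toAdd) * T n.toAdd
        map_one' := by simp
        map_mul' := fun a b => by simp only [toAdd_mul, T_add, map_mul]; ring }
    let δ : LaurentPolynomial B →+* LaurentPolynomial B₁ := evalT ((C : B₁ →+* _).comp C) χd
    have hS : Spec.map (CommRingCat.ofHom ιS) ≫ fT f = fT f₁ := by
      rw [fT, fT, ← Category.assoc, specMap_comp,
        show ιS.comp C = (C : B₁ →+* _).comp C from RingHom.ext fun r => evalT_C _ _ r, ← specMap_comp, Category.assoc]
    have hD : Spec.map (CommRingCat.ofHom δ) ≫ fT f = fT f₁ := by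
      rw [fT, fT, ← Category.assoc, specMap_comp,
        show δ.comp C = (C : B₁ →+* _).comp C from RingHom.ext fun r => evalT_C _ _ r, ← specMap_comp, Category.assoc]
    have hT : Spec.map (CommRingCat.ofHom (C : B₁ →+* LaurentPolynomial B₁)) ≫ fT f = fT f₁ := rfl
    have hCC : Spec.map (CommRingCat.ofHom ((C : B₁ →+* LaurentPolynomial B₁).comp C)) ≫ f = fT f₁ := by
      rw [fT, ← specMap_comp, Category.assoc]
    have hpts : qpt δ hD ≫ g = (qpt C hT ≫ g) * (qpt ιS hS ≫ g) := by
      exact qpt_xT_mul f c δ C ιS hD hT hS fun n => by rw [evalT_T, evalT_T]; rfl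
    have hSv : pl ιS hS (pl C rfl v) = pl ((C : B₁ →+* _).comp C) hCC v := dv_injective (funext fun a => by
      rw [dv_pl, dv_pl, dv_pl]; exact evalT_C _ _ _)
    have hDv : pl δ hD (pl C rfl v) = pl ((C : B₁ →+* _).comp C) hCC v := dv_injective (funext fun a => by
      rw [dv_pl, dv_pl, dv_pl]; exact evalT_C _ _ _)
    have hw : pl δ hD w = Ad G _ _ (qpt C hT ≫ g) (pl ιS hS w) := by
      rw [pl_Ad, pl_Ad, hDv, hSv, hpts, Ad_mul]
    have hSw : pl ιS hS w =
        ∏ n ∈ s, (T n : LaurentPolynomial B₁) • pl C hT (pl C rfl (vm n)) := dv_injective (funext fun a => by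
      rw [dv_pl, hsum, map_sum, dv_prod]
      refine Finset.sum_congr rfl fun n _ => ?_
      rw [map_mul, dv_smul, dv_pl, dv_pl, evalT_C, evalT_T, mul_comm]
      rfl)
    have hR : pl δ hD w =
        ∏ n ∈ s, (T n : LaurentPolynomial B₁) • pl C hT (Ad G _ _ g (pl C rfl (vm n))) := by
      rw [hw, hSw, map_prod]
      refine Finset.prod_congr rfl fun n _ => ?_
      rw [Ad_smul, pl_Ad]
    by_cases hm : m ∈ s
    · refine dv_injective (funext fun a => ?_)
      have h := congrArg (fun z => (dv z a).coeff m) hR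
      simp only [dv_pl, dv_prod, dv_smul, AddMonoidAlgebra.coeff_sum, Finsupp.finset_sum_apply] at h
      rw [coeff_evalT_diag, Finset.sum_eq_single m] at h
      · rw [mul_comm (T m : LaurentPolynomial B₁), coeff_C_mul_T, if_pos rfl] at h
        rw [← h, dv_smul, dv_pl, hvm, mul_comm]
      · intro n _ hn
        rw [mul_comm (T n : LaurentPolynomial B₁), coeff_C_mul_T, if_neg hn]
      · exact fun h' => absurd hm h'
    · rw [hs m hm, map_one, map_one, LieAlg.lie_smul_one]

end Groth.Agent.LieWeight
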